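import Mathlib.RingTheory.PowerSeries.Log
import Mathlib.RingTheory.PowerSeries.Exp
import Mathlib.RingTheory.PowerSeries.Derivative
import Mathlib.RingTheory.PowerSeries.Inverse
import Mathlib.LinearAlgebra.Matrix.Charpoly.Coeff

/-!
# Exponentials of power series and the reversed characteristic polynomial

* `expS L = exp(L)` for a power series `L` with zero constant term, characterised by `D E = E * D L`.
* `charpolyRev M = exp (- ∑ tr(M^m) t^m / m)`.
-/

noncomputable section

namespace Groth.Agent.PowExp

open PowerSeries

variable {K : Type*} [Field K] [CharZero K]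

/-- `exp ∘ L`. -/
def expS (L : PowerSeries K) : PowerSeries K := PowerSeries.subst L (PowerSeries.exp K)

theorem deriv_expS {L : PowerSeries K} (hL : constantCoeff L = 0) :
    d⁄dX K (expS L) = expS L * d⁄dX K L := by
  unfold expS
  rw [derivative_subst (HasSubst.of_constantCoeff_zero' hL), derivative_exp]

theorem constantCoeff_expS {L : PowerSeries K} (hL : constantCoeff L = 0) :
    constantCoeff (expS L) = 1 := by
  have h := HasSubst.of_constantCoeff_zero' hL
  unfold expS
  have h1 : constantCoeff (subst L (exp K - 1)) = 0 := by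
    refine constantCoeff_subst_eq_zero hL _ ?_
    simp
  have h2 : subst L (1 : PowerSeries K) = (1 : PowerSeries K) := by
    rw [← coe_substAlgHom h, map_one]
  rw [subst_sub h, h2, map_sub, map_one, sub_eq_zero] at h1
  exact h1

theorem eq_expS {L E : PowerSeries K} (hL : constantCoeff L = 0) (hE : constantCoeff E = 1)
    (hD : d⁄dX K E = E * d⁄dX K L) : E = expS L := by
  have hne : constantCoeff (expS L) ≠ 0 := by simp [constantCoeff_expS hL]
  have key : E * (expS L)⁻¹ = 1 := by
    apply derivative.ext
    · rw [derivative_one, Derivation.leibniz, derivative_inv', deriv_expS hL, hD]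
      simp only [smul_eq_mul]
      have h1 := PowerSeries.mul_inv_cancel (expS L) hne
      linear_combination (-(E * (expS L)⁻¹ * d⁄dX K L)) * h1
    · simp [hE, constantCoeff_expS hL]
  calc E = E * ((expS L)⁻¹ * expS L) := by rw [PowerSeries.inv_mul_cancel _ hne, mul_one]
    _ = expS L := by rw [← mul_assoc, key, one_mul]

theorem expS_zero : expS (0 : PowerSeries K) = 1 :=
  (eq_expS (map_zero _) (map_one _) (by simp)).symm

theorem expS_add {L L' : PowerSeries K} (h : constantCoeff L = 0) (h' : constantCoeff L' = 0) :
    expS (L + L') = expS L * expS L' := by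
  refine (eq_expS (by simp [h, h']) (by simp [constantCoeff_expS, h, h']) ?_).symm
  rw [Derivation.leibniz, deriv_expS h, deriv_expS h', map_add]
  simp only [smul_eq_mul]
  ring

theorem expS_sum {ι : Type*} (s : Finset ι) (L : ι → PowerSeries K)
    (h : ∀ i ∈ s, constantCoeff (L i) = 0) :
    expS (∑ i ∈ s, L i) = ∏ i ∈ s, expS (L i) := by
  induction s using Finset.cons_induction with
  | empty => simp [expS_zero]
  | cons a s ha ih =>
    simp only [Finset.mem_cons, forall_eq_or_imp] at h
    rw [Finset.sum_cons, Finset.prod_cons,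
      expS_add h.1 (by simp only [map_sum]; exact Finset.sum_eq_zero h.2), ih h.2]

theorem expS_natMul {L : PowerSeries K} (h : constantCoeff L = 0) (n : ℕ) :
    expS ((n : PowerSeries K) * L) = expS L ^ n := by
  induction n with
  | zero => simp [expS_zero]
  | succ n ih =>
    rw [Nat.cast_succ, add_mul, one_mul, expS_add (by simp [h]) h, ih, pow_succ]

theorem expS_injective {L L' : PowerSeries K} (h : constantCoeff L = 0) (h' : constantCoeff L' = 0)
    (he : expS L = expS L') : L = L' := by
  refine derivative.ext ?_ (h.trans h'.symm)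
  have hne : expS L ≠ 0 := fun h0 => by simpa [h0] using constantCoeff_expS h
  have h1 : expS L * d⁄dX K L = expS L * d⁄dX K L' := by
    rw [← deriv_expS h, he, deriv_expS h']
  exact mul_left_cancel₀ hne h1

theorem map_expS {K' : Type*} [Field K'] [CharZero K'] (φ : K →+* K') {L : PowerSeries K}
    (h : constantCoeff L = 0) :
    PowerSeries.map φ (expS L) = expS (PowerSeries.map φ L) := by
  have hm : ∀ F : PowerSeries K, d⁄dX K' (PowerSeries.map φ F) = PowerSeries.map φ (d⁄dX K F) :=
    fun F => by ext n; simp [coeff_derivative]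
  have hc : ∀ F : PowerSeries K, constantCoeff (PowerSeries.map φ F) = φ (constantCoeff F) :=
    fun F => by rw [← coeff_zero_eq_constantCoeff_apply, ← coeff_zero_eq_constantCoeff_apply,
      coeff_map]
  refine eq_expS ?_ ?_ ?_
  · rw [hc, h, map_zero]
  · rw [hc, constantCoeff_expS h, map_one]
  · rw [hm, deriv_expS h, map_mul, hm]

/-- The series `∑_{m ≥ 1} a^m t^m / m`. -/
def geomLog (a : K) : PowerSeries K := mk fun m => a ^ m / (m : K)

theorem constantCoeff_geomLog (a : K) : constantCoeff (geomLog a) = 0 := by
  simp [geomLog, ← coeff_zero_eq_constantCoeff_apply]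

theorem deriv_geomLog (a : K) : d⁄dX K (geomLog a) = mk fun m => a ^ (m + 1) := by
  ext m
  have : ((m : K) + 1) ≠ 0 := by exact_mod_cast Nat.succ_ne_zero m
  simp [geomLog, coeff_derivative, this]

theorem expS_geomLog (a : K) : expS (geomLog a) = (1 - C a * X)⁻¹ := by
  refine (eq_expS (constantCoeff_geomLog a) (by simp) ?_).symm
  have hg : d⁄dX K (geomLog a) * (1 - C a * X) = C a := by
    rw [deriv_geomLog]
    ext m
    cases m with
    | zero => simp [mul_sub]
    | succ m =>
      simp [mul_sub, ← mul_assoc, coeff_succ_mul_X, pow_succ]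
  have hne : constantCoeff (1 - C a * X : PowerSeries K) ≠ 0 := by simp
  have hi := PowerSeries.inv_mul_cancel _ hne
  rw [derivative_inv', map_sub, derivative_one, Derivation.leibniz, derivative_C, derivative_X]
  simp only [smul_eq_mul, mul_one, mul_zero, add_zero, zero_sub]
  linear_combination (-((1 - C a * X : PowerSeries K)⁻¹) ^ 2) * hg +
    (d⁄dX K (geomLog a) * (1 - C a * X)⁻¹) * hi

theorem expS_geomLog_mul (a : K) : expS (geomLog a) * (1 - C a * X) = 1 := by
  rw [expS_geomLog, PowerSeries.inv_mul_cancel _ (by simp)]

section Jacobi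

variable {R A : Type*} [CommRing R] [CommRing A] [Algebra R A]
variable {n : Type*} [Fintype n] [DecidableEq n]

omit [Fintype n] in
/-- Derivative of a finite product. -/
theorem derivation_prod (D : Derivation R A A) (s : Finset n) (g : n → A) :
    D (∏ i ∈ s, g i) = ∑ i ∈ s, ∏ j ∈ s, Function.update g i (D (g i)) j := by
  induction s using Finset.induction with
  | empty => simp
  | insert a s ha ih =>
    rw [Finset.prod_insert ha, Derivation.leibniz, ih, Finset.sum_insert ha]
    simp only [smul_eq_mul]
    rw [Finset.prod_insert ha, Function.update_self, add_comm]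
    congr 1
    · rw [mul_comm]
      congr 1
      exact Finset.prod_congr rfl fun j hj =>
        (Function.update_of_ne (ne_of_mem_of_not_mem hj ha) _ _).symm
    · rw [Finset.mul_sum]
      refine Finset.sum_congr rfl fun i hi => ?_
      rw [Finset.prod_insert ha, Function.update_of_ne (ne_of_mem_of_not_mem hi ha).symm]

/-- Jacobi's formula. -/
theorem derivation_det (D : Derivation R A A) (M : Matrix n n A) :
    D M.det = Matrix.trace (M.adjugate * M.map D) := by
  have hdet : ∀ i, (M.adjugate * M.map D) i i =
      (M.updateCol i fun j => D (M j i)).det := fun i => by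
    rw [← Matrix.cramer_apply, Matrix.cramer_eq_adjugate_mulVec]
    rfl
  rw [Matrix.trace]
  simp only [Matrix.diag_apply, hdet]
  simp only [Matrix.det_apply', map_sum, Derivation.leibniz, Derivation.map_intCast,
    smul_eq_mul, mul_zero, add_zero, derivation_prod, Finset.mul_sum]
  rw [Finset.sum_comm]
  refine Finset.sum_congr rfl fun i _ => Finset.sum_congr rfl fun σ _ => ?_
  congr 1
  refine Finset.prod_congr rfl fun j _ => ?_
  rw [Matrix.updateCol_apply]
  rcases eq_or_ne j i with rfl | h
  · simp
  · rw [Function.update_of_ne h, if_neg h]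

/-- The matrix `∑ M^m t^m`. -/
def geomMatrix (M : Matrix n n R) : Matrix n n (PowerSeries R) :=
  Matrix.of fun i j => mk fun m => (M ^ m) i j

theorem one_sub_X_mul_geomMatrix (M : Matrix n n R) :
    (1 - (X : PowerSeries R) • M.map C) * geomMatrix M = 1 := by
  refine Matrix.ext fun i j => PowerSeries.ext fun m => ?_
  cases m with
  | zero =>
    rw [sub_mul, one_mul, Matrix.smul_mul]
    simp [geomMatrix, Matrix.one_apply, apply_ite constantCoeff]
  | succ m =>
    rw [sub_mul, one_mul, Matrix.smul_mul]
    simp [geomMatrix, Matrix.mul_apply, Matrix.one_apply, apply_ite (coeff (R := R) (m + 1)),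
      pow_succ', map_sum]

/-- Logarithmic derivative of the reversed characteristic polynomial. -/
theorem deriv_charpolyRev (M : Matrix n n R) :
    d⁄dX R (M.charpolyRev : PowerSeries R) =
      -((M.charpolyRev : PowerSeries R) * mk fun m => Matrix.trace (M ^ (m + 1))) := by
  set A : Matrix n n (PowerSeries R) := 1 - (X : PowerSeries R) • M.map C with hA
  have hdet : (M.charpolyRev : PowerSeries R) = A.det := by
    rw [← Polynomial.coeToPowerSeries.ringHom_apply, Matrix.charpolyRev, RingHom.map_det]
    congr 1
    refine Matrix.ext fun i j => ?_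
    simp [hA, Matrix.one_apply, apply_ite (fun p : Polynomial R => (p : PowerSeries R)),
      (PowerSeries.commute_X (C (M i j))).eq]
  have hadj : A.adjugate = A.det • geomMatrix M := by
    calc A.adjugate = A.adjugate * (A * geomMatrix M) := by
          rw [one_sub_X_mul_geomMatrix M, mul_one]
      _ = A.det • geomMatrix M := by
          rw [← Matrix.mul_assoc, Matrix.adjugate_mul, Matrix.smul_mul, one_mul]
  have hDA : A.map (d⁄dX R) = -(M.map C) := by
    refine Matrix.ext fun i j => ?_
    simp [hA, Matrix.one_apply, apply_ite (d⁄dX R)]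
  rw [hdet, derivation_det, hadj, hDA, Matrix.smul_mul, Matrix.trace_smul, smul_eq_mul, mul_neg,
    Matrix.trace_neg, mul_neg]
  congr 2
  ext m
  rw [coeff_mk, Matrix.trace, Matrix.trace, map_sum]
  refine Finset.sum_congr rfl fun i _ => ?_
  simp [Matrix.diag_apply, Matrix.mul_apply, geomMatrix, pow_succ, map_sum]

end Jacobi

/-- `det (1 - t M) = exp (- ∑ tr (M^m) t^m / m)`. -/
theorem coe_charpolyRev_eq_expS {n : Type*} [Fintype n] [DecidableEq n] (M : Matrix n n K) :
    (M.charpolyRev : PowerSeries K) =
      expS (mk fun m => -(Matrix.trace (M ^ m)) / (m : K)) := by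
  refine eq_expS (by simp [← coeff_zero_eq_constantCoeff_apply]) ?_ ?_
  · rw [Polynomial.constantCoeff_coe, Polynomial.coeff_zero_eq_eval_zero, Matrix.eval_charpolyRev]
  · rw [deriv_charpolyRev, ← mul_neg]
    congr 1
    ext m
    have : ((m : K) + 1) ≠ 0 := by exact_mod_cast Nat.succ_ne_zero m
    simp [coeff_derivative, this]

end Groth.Agent.PowExp
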